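import Groth.Agent.PunctFEtLib.Extend

/-!
# The punctured spectrum of a local ring of depth at least two
-/

set_option autoImplicit false
set_option linter.style.haveILetI false

universe u

open CategoryTheory CategoryTheory.Limits AlgebraicGeometry TopologicalSpace Opposite

noncomputable section

namespace PunctFEtLib

theorem depth_stalk_spec (R : Type u) [CommRing R] [IsNoetherianRing R] (x : Spec (CommRingCat.of R)) :
    LocCoh.depth ((Spec (CommRingCat.of R)).presheaf.stalk x) ((Spec (CommRingCat.of R)).presheaf.stalk x) =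
      LocCoh.depth (Localization.AtPrime x.asIdeal) (Localization.AtPrime x.asIdeal) :=
  by
  let S := (Spec (CommRingCat.of R)).presheaf.stalk x
  let e : Localization.AtPrime x.asIdeal ≃+* S := (StructureSheaf.stalkIso R x).toRingEquiv
  exact @Eq.symm _ _ _ (@DepthLib.depth_congr_ringEquiv _ S _ _ _ _
    ((Spec (CommRingCat.of R)).toLocallyRingedSpace.isLocalRing x) inferInstance e)

theorem le_depth_off_punctured (A : Type u) [CommRing A] [IsNoetherianRing A] [IsLocalRing A]
    (hA : (2 : ℕ∞) ≤ LocCoh.depth A A) (x : Spec (CommRingCat.of A)) (hx : x ∉ FEt.puncturedSpec A) :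
    (2 : ℕ∞) ≤ LocCoh.depth ((Spec (CommRingCat.of A)).presheaf.stalk x) ((Spec (CommRingCat.of A)).presheaf.stalk x) := by
  have hx' : x = IsLocalRing.closedPoint A := not_not.1 hx
  have e : A ≃ₐ[A] Localization.AtPrime x.asIdeal :=
    IsLocalization.atUnits A x.asIdeal.primeCompl fun a ha => by
      rw [hx'] at ha
      exact not_not.1 ha
  rw [depth_stalk_spec, ← DepthLib.depth_congr_ringEquiv e.toRingEquiv]
  exact hA

theorem invisible_punctured (A : Type u) [CommRing A] [IsNoetherianRing A] [IsLocalRing A]
    (hA : (2 : ℕ∞) ≤ LocCoh.depth A A) (Y : FEt.Cat (Spec (CommRingCat.of A))) :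
    Invisible (Y.hom ⁻¹ᵁ FEt.puncturedSpec A) := by
  haveI : Etale Y.hom := Y.prop.2
  exact invisible_preimage (X := Spec (CommRingCat.of A)) Y.hom _ (le_depth_off_punctured A hA)

end PunctFEtLib
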