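import Groth.Agent.PunctFEtLib.Sections
import Groth.Prelude.Def_FEt

/-!
# Extending morphisms across an invisible open
-/

set_option autoImplicit false
set_option linter.style.haveILetI false

universe u

open CategoryTheory CategoryTheory.Limits AlgebraicGeometry TopologicalSpace Opposite

noncomputable section

namespace PunctFEtLib

variable {Z Y' X : Scheme.{u}} {V : Z.Opens} (hV : Invisible V) (q : Y' ⟶ X) [IsAffineHom q]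

include hV in
theorem ext_of_invisible {T : Z.Opens} {G G' : (T : Scheme.{u}) ⟶ Y'} (hw : G ≫ q = G' ≫ q)
    (h : (T.ι ⁻¹ᵁ V).ι ≫ G = (T.ι ⁻¹ᵁ V).ι ≫ G') : G = G' := by
  have hc : ∀ z : Z, z ∈ T → ∃ (W : X.Opens) (S : Z.Opens), IsAffineOpen W ∧ z ∈ S ∧ ∃ hST : S ≤ T,
      ∀ w, (G ≫ q) (Z.homOfLE hST w) ∈ W := by
    intro z hz
    obtain ⟨W, hW, hzW, -⟩ := exists_isAffineOpen_mem_and_subset (X := X) (x := (G ≫ q) ⟨z, hz⟩) (U := ⊤) trivial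
    refine ⟨W, T.ι ''ᵁ ((G ≫ q) ⁻¹ᵁ W), hW, ⟨⟨z, hz⟩, hzW, rfl⟩, T.ι_image_le _, fun w => ?_⟩
    obtain ⟨v, hv, hvw⟩ := w.2
    have : Z.homOfLE (T.ι_image_le ((G ≫ q) ⁻¹ᵁ W)) w = v := by
      apply T.ι.isEmbedding.injective
      rw [← Scheme.Hom.comp_apply, Scheme.homOfLE_ι]
      exact hvw.symm
    rw [this]
    exact hv
  choose W S hW hzS hST hSW using hc
  let 𝒰 : (T : Scheme.{u}).OpenCover := (T : Scheme.{u}).openCoverOfIsOpenCover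
    (fun z : T => T.ι ⁻¹ᵁ S z.1 z.2) (IsOpenCover.mk (eq_top_iff.mpr fun z _ => Opens.mem_iSup.mpr ⟨z, hzS z.1 z.2⟩))
  suffices key : ∀ (z : Z) (hz : z ∈ T), Z.homOfLE (hST z hz) ≫ G = Z.homOfLE (hST z hz) ≫ G' by
    refine 𝒰.hom_ext _ _ fun z => ?_
    let P : (T : Scheme.{u}).Opens := T.ι ⁻¹ᵁ S z.1 z.2
    have hr : Set.range (P.ι ≫ T.ι) ⊆ Set.range (S z.1 z.2).ι := by
      rintro _ ⟨a, rfl⟩
      rw [Scheme.Opens.range_ι]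
      exact a.2
    have hP : P.ι = IsOpenImmersion.lift (S z.1 z.2).ι (P.ι ≫ T.ι) hr ≫ Z.homOfLE (hST z.1 z.2) := by
      rw [← cancel_mono T.ι, Category.assoc, Scheme.homOfLE_ι, IsOpenImmersion.lift_fac]
    show P.ι ≫ G = P.ι ≫ G'
    rw [hP, Category.assoc, Category.assoc, key]
  intro z hz
  let W := W z hz
  let S := S z hz
  let a := Z.homOfLE (hST z hz) ≫ G
  let a' := Z.homOfLE (hST z hz) ≫ G'
  haveI : IsAffine (q ⁻¹ᵁ W : Scheme.{u}) := (hW z hz).preimage q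
  have hr : Set.range a ⊆ Set.range (q ⁻¹ᵁ W).ι := by
    rintro _ ⟨w, rfl⟩
    rw [Scheme.Opens.range_ι]
    exact hSW z hz w
  have hr' : Set.range a' ⊆ Set.range (q ⁻¹ᵁ W).ι := by
    rintro _ ⟨w, rfl⟩
    rw [Scheme.Opens.range_ι]
    show (G' ≫ q) (Z.homOfLE (hST z hz) w) ∈ W
    rw [← hw]
    exact hSW z hz w
  show a = a'
  rw [← IsOpenImmersion.lift_fac (q ⁻¹ᵁ W).ι a hr, ← IsOpenImmersion.lift_fac (q ⁻¹ᵁ W).ι a' hr']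
  congr 1
  refine ext_affine (hV.appTop_bijective S) ?_
  rw [← cancel_mono (q ⁻¹ᵁ W).ι, Category.assoc, Category.assoc, IsOpenImmersion.lift_fac, IsOpenImmersion.lift_fac]
  let m : (S.ι ⁻¹ᵁ V : Scheme.{u}) ⟶ (T.ι ⁻¹ᵁ V : Scheme.{u}) :=
    IsOpenImmersion.lift (T.ι ⁻¹ᵁ V).ι ((S.ι ⁻¹ᵁ V).ι ≫ Z.homOfLE (hST z hz)) (by
      rintro _ ⟨w, rfl⟩
      rw [Scheme.Opens.range_ι]
      show (Z.homOfLE (hST z hz) ≫ T.ι) ((S.ι ⁻¹ᵁ V).ι w) ∈ V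
      rw [Scheme.homOfLE_ι]
      exact w.2)
  have hm : m ≫ (T.ι ⁻¹ᵁ V).ι = (S.ι ⁻¹ᵁ V).ι ≫ Z.homOfLE (hST z hz) := IsOpenImmersion.lift_fac _ _ _
  show (S.ι ⁻¹ᵁ V).ι ≫ Z.homOfLE (hST z hz) ≫ G = (S.ι ⁻¹ᵁ V).ι ≫ Z.homOfLE (hST z hz) ≫ G'
  rw [← reassoc_of% hm, ← reassoc_of% hm, h]

include hV in
theorem exists_extend (p : Z ⟶ X) (g : (V : Scheme.{u}) ⟶ Y') (hg : g ≫ q = V.ι ≫ p) :
    ∃ G : Z ⟶ Y', V.ι ≫ G = g ∧ G ≫ q = p := by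
  have hW : ∀ W : X.affineOpens, ∃ G : (p ⁻¹ᵁ W.1 : Scheme.{u}) ⟶ Y',
      ((p ⁻¹ᵁ W.1).ι ⁻¹ᵁ V).ι ≫ G = (p ⁻¹ᵁ W.1).ι.resLE V ((p ⁻¹ᵁ W.1).ι ⁻¹ᵁ V) le_rfl ≫ g ∧
        G ≫ q = (p ⁻¹ᵁ W.1).ι ≫ p := by
    intro W
    let T := p ⁻¹ᵁ W.1
    let VT := T.ι ⁻¹ᵁ V
    let j := T.ι.resLE V VT le_rfl
    haveI : IsAffine (q ⁻¹ᵁ W.1 : Scheme.{u}) := W.2.preimage q
    haveI : IsAffine (W.1 : Scheme.{u}) := W.2
    let g' : (VT : Scheme.{u}) ⟶ (q ⁻¹ᵁ W.1 : Scheme.{u}) := IsOpenImmersion.lift (q ⁻¹ᵁ W.1).ι (j ≫ g) (by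
      rintro _ ⟨w, rfl⟩
      rw [Scheme.Opens.range_ι]
      show (j ≫ g ≫ q) w ∈ W.1
      rw [hg, ← Category.assoc, Scheme.Hom.resLE_comp_ι, Category.assoc]
      exact (VT.ι w).2)
    have hg' : g' ≫ (q ⁻¹ᵁ W.1).ι = j ≫ g := IsOpenImmersion.lift_fac _ _ _
    obtain ⟨G, hG, -⟩ := existsUnique_extend (hV.appTop_bijective T) g'
    refine ⟨G ≫ (q ⁻¹ᵁ W.1).ι, by rw [reassoc_of% hG, hg'], ?_⟩
    have e : G ≫ q ∣_ W.1 = p ∣_ W.1 := by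
      refine ext_affine (hV.appTop_bijective T) ?_
      rw [← cancel_mono W.1.ι, Category.assoc, Category.assoc, Category.assoc, morphismRestrict_ι,
        morphismRestrict_ι, reassoc_of% hG, reassoc_of% hg', hg]
      exact Scheme.Hom.resLE_comp_ι_assoc _ _ _
    rw [Category.assoc, ← morphismRestrict_ι, reassoc_of% e, morphismRestrict_ι]
  choose G hG hGq using hW
  have hcov : ⨆ W : X.affineOpens, p ⁻¹ᵁ W.1 = ⊤ := by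
    rw [← Scheme.Hom.preimage_iSup, iSup_affineOpens_eq_top, Scheme.Hom.preimage_top]
  let 𝒰 : Z.OpenCover := Z.openCoverOfIsOpenCover (fun W : X.affineOpens => p ⁻¹ᵁ W.1)
    (IsOpenCover.mk hcov)
  have hc : ∀ A B : X.affineOpens,
      pullback.fst (p ⁻¹ᵁ A.1).ι (p ⁻¹ᵁ B.1).ι ≫ G A = pullback.snd (p ⁻¹ᵁ A.1).ι (p ⁻¹ᵁ B.1).ι ≫ G B := by
    intro A B
    let m := pullback.fst (p ⁻¹ᵁ A.1).ι (p ⁻¹ᵁ B.1).ι ≫ (p ⁻¹ᵁ A.1).ι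
    let e := m.isoOpensRange
    rw [← cancel_epi e.inv]
    have heA : e.inv ≫ pullback.fst (p ⁻¹ᵁ A.1).ι (p ⁻¹ᵁ B.1).ι ≫ (p ⁻¹ᵁ A.1).ι = m.opensRange.ι :=
      m.isoOpensRange_inv_comp
    have heB : e.inv ≫ pullback.snd (p ⁻¹ᵁ A.1).ι (p ⁻¹ᵁ B.1).ι ≫ (p ⁻¹ᵁ B.1).ι = m.opensRange.ι := by
      rw [← pullback.condition]; exact heA
    refine ext_of_invisible hV q ?_ ?_
    · simp only [Category.assoc, hGq]
      rw [reassoc_of% heA, reassoc_of% heB]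
    · have aux : ∀ (C : X.affineOpens) (a : (m.opensRange : Scheme.{u}) ⟶ (p ⁻¹ᵁ C.1 : Scheme.{u})),
          a ≫ (p ⁻¹ᵁ C.1).ι = m.opensRange.ι →
          (m.opensRange.ι ⁻¹ᵁ V).ι ≫ a ≫ G C = m.opensRange.ι.resLE V _ le_rfl ≫ g := by
        intro C a ha
        have hle : m.opensRange.ι ⁻¹ᵁ V ≤ a ⁻¹ᵁ ((p ⁻¹ᵁ C.1).ι ⁻¹ᵁ V) := by
          rw [← Scheme.Hom.comp_preimage, ha]
        rw [← Scheme.Hom.resLE_comp_ι_assoc a hle, hG, ← Category.assoc]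
        congr 1
        rw [← cancel_mono V.ι, Category.assoc, Scheme.Hom.resLE_comp_ι, Scheme.Hom.resLE_comp_ι_assoc,
          Scheme.Hom.resLE_comp_ι, ha]
      rw [← Category.assoc e.inv, ← Category.assoc e.inv, aux A _ ((Category.assoc _ _ _).trans heA),
        aux B _ ((Category.assoc _ _ _).trans heB)]
  let G₀ := 𝒰.glueMorphisms G hc
  have hG₀ : ∀ W : X.affineOpens, (p ⁻¹ᵁ W.1).ι ≫ G₀ = G W := fun W => 𝒰.ι_glueMorphisms G hc W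
  refine ⟨G₀, ?_, 𝒰.hom_ext _ _ fun W => ?_⟩
  · let 𝒱 : (V : Scheme.{u}).OpenCover := (V : Scheme.{u}).openCoverOfIsOpenCover
      (fun W : X.affineOpens => V.ι ⁻¹ᵁ p ⁻¹ᵁ W.1)
      (IsOpenCover.mk (by rw [← Scheme.Hom.preimage_iSup, hcov, Scheme.Hom.preimage_top]))
    refine 𝒱.hom_ext _ _ fun W => ?_
    show (V.ι ⁻¹ᵁ p ⁻¹ᵁ W.1).ι ≫ V.ι ≫ G₀ = (V.ι ⁻¹ᵁ p ⁻¹ᵁ W.1).ι ≫ g
    let T := p ⁻¹ᵁ W.1
    let k : ((V.ι ⁻¹ᵁ T) : Scheme.{u}) ⟶ ((T.ι ⁻¹ᵁ V) : Scheme.{u}) :=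
      IsOpenImmersion.lift ((T.ι ⁻¹ᵁ V).ι ≫ T.ι) ((V.ι ⁻¹ᵁ T).ι ≫ V.ι) (by
        rintro _ ⟨w, rfl⟩
        exact ⟨⟨⟨_, w.2⟩, ((V.ι ⁻¹ᵁ T).ι w).2⟩, rfl⟩)
    have hk : k ≫ (T.ι ⁻¹ᵁ V).ι ≫ T.ι = (V.ι ⁻¹ᵁ T).ι ≫ V.ι := IsOpenImmersion.lift_fac _ _ _
    have hk' : k ≫ T.ι.resLE V (T.ι ⁻¹ᵁ V) le_rfl = (V.ι ⁻¹ᵁ T).ι := by
      rw [← cancel_mono V.ι, Category.assoc, Scheme.Hom.resLE_comp_ι]; exact hk
    rw [← reassoc_of% hk, hG₀, hG, reassoc_of% hk']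
  · show (p ⁻¹ᵁ W.1).ι ≫ G₀ ≫ q = (p ⁻¹ᵁ W.1).ι ≫ p
    rw [reassoc_of% (hG₀ W), hGq]

/-- Restriction of finite étale covers along an open which is invisible on all covers is fully faithful. -/
theorem restrict_full_faithful {X : Scheme.{u}} (U : X.Opens)
    (h : ∀ Y : FEt.Cat X, Invisible (Y.hom ⁻¹ᵁ U)) :
    (FEt.restrict U.ι).Full ∧ (FEt.restrict U.ι).Faithful := by
  refine ⟨⟨fun {A B} ψ => ?_⟩, ⟨fun {A B} a b hab => ?_⟩⟩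
  · haveI : IsFinite B.hom := B.prop.1
    let e := pullbackRestrictIsoRestrict A.hom U
    have he : e.hom ≫ (A.hom ⁻¹ᵁ U).ι = pullback.fst A.hom U.ι := pullbackRestrictIsoRestrict_hom_ι _ _
    have hw : ψ.left ≫ pullback.snd B.hom U.ι = pullback.snd A.hom U.ι := MorphismProperty.Over.w ψ
    have hwf : (ψ.left ≫ pullback.fst B.hom U.ι) ≫ B.hom = pullback.fst A.hom U.ι ≫ A.hom :=
      (Category.assoc _ _ _).trans ((congrArg (ψ.left ≫ ·) (pullback.condition (f := B.hom) (g := U.ι))).trans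
        ((Category.assoc _ _ _).symm.trans ((congrArg (· ≫ U.ι) hw).trans (pullback.condition (f := A.hom) (g := U.ι)).symm)))
    obtain ⟨G, hG, hGq⟩ := exists_extend (h A) B.hom A.hom (e.inv ≫ ψ.left ≫ pullback.fst B.hom U.ι) (by
      refine (Category.assoc _ _ _).trans ((congrArg (e.inv ≫ ·) hwf).trans ?_)
      rw [← he, Category.assoc, Iso.inv_hom_id_assoc])
    refine ⟨MorphismProperty.Over.homMk G hGq, MorphismProperty.Over.Hom.ext (pullback.hom_ext ?_ ?_)⟩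
    · refine (pullback.lift_fst _ _ _).trans ?_
      show pullback.fst A.hom U.ι ≫ G = _
      rw [← he, Category.assoc, hG, Iso.hom_inv_id_assoc]
      rfl
    · exact (pullback.lift_snd _ _ _).trans hw.symm
  · haveI : IsFinite B.hom := B.prop.1
    refine MorphismProperty.Over.Hom.ext ?_
    let e := pullbackRestrictIsoRestrict A.hom U
    have he : e.hom ≫ (A.hom ⁻¹ᵁ U).ι = pullback.fst A.hom U.ι := pullbackRestrictIsoRestrict_hom_ι _ _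
    have h1 := congrArg (fun z => z.left ≫ pullback.fst B.hom U.ι) hab
    simp only [FEt.restrict] at h1
    have h2 : pullback.fst A.hom U.ι ≫ a.left = pullback.fst A.hom U.ι ≫ b.left :=
      (pullback.lift_fst _ _ _).symm.trans (h1.trans (pullback.lift_fst _ _ _))
    rw [← he, Category.assoc, Category.assoc, cancel_epi] at h2
    have hw : (⊤ : A.left.Opens).ι ≫ a.left ≫ B.hom = (⊤ : A.left.Opens).ι ≫ b.left ≫ B.hom := by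
      rw [MorphismProperty.Over.w a, MorphismProperty.Over.w b]
    haveI : IsIso (⊤ : A.left.Opens).ι := by rw [← Scheme.topIso_hom]; infer_instance
    rw [← cancel_epi (⊤ : A.left.Opens).ι]
    refine ext_of_invisible (h A) B.hom (by simpa using hw) ?_
    rw [← Scheme.Hom.resLE_comp_ι_assoc (⊤ : A.left.Opens).ι (le_rfl : _ ≤ (⊤ : A.left.Opens).ι ⁻¹ᵁ (A.hom ⁻¹ᵁ U)),
      ← Scheme.Hom.resLE_comp_ι_assoc (⊤ : A.left.Opens).ι (le_rfl : _ ≤ (⊤ : A.left.Opens).ι ⁻¹ᵁ (A.hom ⁻¹ᵁ U)), h2]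

end PunctFEtLib
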