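import Groth.Agent.LocSuppLib.DepthTwo
import Groth.Agent.RefHullLib.Reflexive
import Groth.Agent.DepthLib.SkStalk
import Groth.Agent.HenselDesc.Local
import Groth.Agent.UnrStalkLib.Locus
import Groth.Agent.DevissLib.ClosedImm

/-!
# Depth two and sections of the structure sheaf; depth along étale maps
-/

set_option autoImplicit false
set_option linter.style.haveILetI false

universe u

open CategoryTheory CategoryTheory.Limits AlgebraicGeometry TopologicalSpace Opposite

noncomputable section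

namespace PunctFEtLib

/-- An open `V` is invisible to sections: restriction `Γ(T) → Γ(T ⊓ V)` is bijective for all opens. -/
def Invisible {Z : Scheme.{u}} (V : Z.Opens) : Prop :=
  ∀ T : Z.Opens, Function.Bijective (Z.presheaf.map (homOfLE (inf_le_left : T ⊓ V ≤ T)).op)

theorem invisible_of_depth {Z : Scheme.{u}} [IsLocallyNoetherian Z] (V : Z.Opens)
    (h : ∀ z : Z, z ∉ V → (2 : ℕ∞) ≤ LocCoh.depth (Z.presheaf.stalk z) (Z.presheaf.stalk z)) : Invisible V := by
  intro T
  refine (LocSuppLib.depth_two_iff_bijective V (DevissLib.isCoh_structureModule Z)).1 (fun z hz => ?_) T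
  obtain ⟨e⟩ := RefHullLib.nonempty_stalk_unit Z z
  rw [← CommAlgDim.depth_congr e]
  exact h z hz

theorem depth_stalk_etale {Y X : Scheme.{u}} (f : Y ⟶ X) [Etale f] [IsLocallyNoetherian X] (y : Y) :
    LocCoh.depth (Y.presheaf.stalk y) (Y.presheaf.stalk y) =
      LocCoh.depth (X.presheaf.stalk (f y)) (X.presheaf.stalk (f y)) := by
  haveI : IsLocallyNoetherian Y := LocallyOfFiniteType.isLocallyNoetherian f
  have hm := ((UnrStalkLib.stalkMap_formallyUnramified_iff f y).1 (FormallyUnramified.stalkMap f y)).1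
  letI := (f.stalkMap y).hom.toAlgebra
  haveI : Module.Flat (X.presheaf.stalk (f y)) (Y.presheaf.stalk y) := Flat.stalkMap f y
  exact HenselDesc.depth_eq_of_flat_unramified _ _ hm

theorem invisible_preimage {Y X : Scheme.{u}} (f : Y ⟶ X) [Etale f] [IsLocallyNoetherian X] (U : X.Opens)
    (h : ∀ x : X, x ∉ U → (2 : ℕ∞) ≤ LocCoh.depth (X.presheaf.stalk x) (X.presheaf.stalk x)) :
    Invisible (f ⁻¹ᵁ U) := by
  haveI : IsLocallyNoetherian Y := LocallyOfFiniteType.isLocallyNoetherian f
  exact invisible_of_depth _ fun y hy => by rw [depth_stalk_etale f y]; exact h _ hy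

variable {Z : Scheme.{u}}

theorem map_bijective_of_eq {V T S : Z.Opens} (hV : Invisible V) (hS : S = T ⊓ V) (i : S ≤ T) :
    Function.Bijective (Z.presheaf.map (homOfLE i).op) := by
  subst hS
  exact hV T

theorem Invisible.appTop_bijective {V : Z.Opens} (hV : Invisible V) (T : Z.Opens) :
    Function.Bijective (T.ι ⁻¹ᵁ V).ι.appTop := by
  have e : T.ι ''ᵁ ((T.ι ⁻¹ᵁ V).ι ''ᵁ ⊤) = (T.ι ''ᵁ ⊤) ⊓ V := by
    rw [Scheme.Opens.ι_image_top, Scheme.Opens.ι_image_top, Scheme.Hom.image_preimage_eq_opensRange_inf,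
      Scheme.Opens.opensRange_ι]
  exact map_bijective_of_eq hV e (le_of_eq_of_le e inf_le_left)

theorem existsUnique_extend {A : Scheme.{u}} [IsAffine A] {V : Z.Opens}
    (hb : Function.Bijective V.ι.appTop) (g : (V : Scheme.{u}) ⟶ A) : ∃! G : Z ⟶ A, V.ι ≫ G = g := by
  haveI : IsIso V.ι.appTop := (ConcreteCategory.isIso_iff_bijective _).2 hb
  let G : Z ⟶ A := Z.toSpecΓ ≫ Spec.map (g.appTop ≫ inv V.ι.appTop) ≫ A.isoSpec.inv
  have hG : V.ι ≫ G = g := by
    simp only [G]
    rw [Scheme.toSpecΓ_naturality_assoc, ← Spec.map_comp_assoc, Category.assoc, IsIso.inv_hom_id,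
      Category.comp_id, ← Scheme.toSpecΓ_naturality_assoc, Scheme.toSpecΓ_isoSpec_inv, Category.comp_id]
  refine ⟨G, hG, fun G' hG' => ?_⟩
  dsimp only at hG'
  refine ext_of_isAffine ?_
  have h := congrArg Scheme.Hom.appTop (hG'.trans hG.symm)
  simp only [Scheme.Hom.comp_appTop] at h
  exact (cancel_mono V.ι.appTop).1 h

theorem ext_affine {A : Scheme.{u}} [IsAffine A] {V : Z.Opens}
    (hb : Function.Bijective V.ι.appTop) {G G' : Z ⟶ A} (h : V.ι ≫ G = V.ι ≫ G') : G = G' :=
  (existsUnique_extend hb (V.ι ≫ G')).unique h rfl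

end PunctFEtLib
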